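import Groth.Prelude.Def_W4c6equivkfinstabCyc
import Mathlib.RingTheory.Polynomial.Cyclotomic.Roots
import Mathlib.FieldTheory.Minpoly.IsIntegrallyClosed
import Mathlib.Algebra.MonoidAlgebra.Module
import Mathlib.Algebra.Ring.GeomSum

/-!
# Cyclotomic quotients of group rings: comaximality and separation
-/

noncomputable section

open Polynomial Finset W4c6equivkfinstab

namespace CycQuotLib

universe u v w

variable {Λ : Type u} [CommRing Λ]

local notation:max "𝕖" a:max => AddMonoidAlgebra.single a (1 : Λ)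

lemma single_pow_nsmul {C : Type*} [AddCommMonoid C] (g : C) (j : ℕ) :
    𝕖 g ^ j = 𝕖(j • g) := by
  simp [AddMonoidAlgebra.single_pow]

lemma cyclotomic_dvd_geom_sum {n j d : ℕ} (hn : 0 < n) (hnd : n ∣ j * d) (hj : ¬ n ∣ j) :
    cyclotomic n ℤ ∣ ∑ i ∈ range d, (X ^ j : ℤ[X]) ^ i := by
  have h := Complex.isPrimitiveRoot_exp n hn.ne'
  set ζ := Complex.exp (2 * Real.pi * Complex.I / n)
  rw [cyclotomic_eq_minpoly h hn]
  refine minpoly.isIntegrallyClosed_dvd (h.isIntegral hn) ?_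
  simp only [map_sum, map_pow, aeval_X]
  have h1 : ζ ^ j ≠ 1 := fun e => hj ((h.pow_eq_one_iff_dvd j).1 e)
  have h2 : (ζ ^ j) ^ d = 1 := by rw [← pow_mul]; exact (h.pow_eq_one_iff_dvd _).2 hnd
  have := geom_sum_mul (ζ ^ j) d
  rw [h2, sub_self, mul_eq_zero] at this
  exact this.resolve_right (sub_ne_zero.2 h1)

lemma aeval_map_int {R : Type*} [CommRing R] [Algebra Λ R] [Algebra ℤ R] (x : R)
    (p : ℤ[X]) : aeval x (p.map (Int.castRingHom Λ)) = aeval x p := by
  rw [aeval_def, aeval_def, eval₂_map]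
  congr 1
  exact RingHom.ext_int _ _

section Cyclic

variable {C : Type v} [AddCommGroup C] [Finite C]

omit [Finite C] in
lemma aeval_cyclotomic_mem_cycIdeal {g : C} (hg : AddSubgroup.zmultiples g = ⊤) :
    aeval 𝕖 g (cyclotomic (Nat.card C) ℤ) ∈ cycIdeal Λ C := by
  rw [← aeval_map_int (Λ := Λ), map_cyclotomic]
  exact Ideal.subset_span ⟨g, hg, rfl⟩

lemma exists_nsmul_eq {g : C} (hg : AddSubgroup.zmultiples g = ⊤) (c : C) :
    ∃ j : ℕ, j • g = c := by
  have : c ∈ AddSubgroup.zmultiples g := hg ▸ AddSubgroup.mem_top c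
  rw [← mem_multiples_iff_mem_zmultiples] at this
  exact this

omit [Finite C] in
lemma addOrderOf_gen {g : C} (hg : AddSubgroup.zmultiples g = ⊤) : addOrderOf g = Nat.card C := by
  rw [← Nat.card_zmultiples, hg, AddSubgroup.card_top]

lemma cycIdeal_le_span_singleton {g : C} (hg : AddSubgroup.zmultiples g = ⊤) :
    cycIdeal Λ C ≤ Ideal.span {aeval 𝕖 g (cyclotomic (Nat.card C) ℤ)} := by
  refine Ideal.span_le.2 ?_
  rintro x ⟨g', hg', rfl⟩
  obtain ⟨j, rfl⟩ := exists_nsmul_eq hg g'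
  set n := Nat.card C with hndef
  have hn : 0 < n := Nat.card_pos
  rw [SetLike.mem_coe, Ideal.mem_span_singleton, ← single_pow_nsmul, ← map_cyclotomic n
    (Int.castRingHom Λ), aeval_map_int, show (𝕖 g) ^ j = aeval 𝕖 g (X ^ j : ℤ[X]) by simp, ← aeval_comp]
  refine aeval_dvd _ ?_
  have hcop : j.Coprime n := by
    have := addOrderOf_gen hg'
    rw [addOrderOf_nsmul g, addOrderOf_gen hg, ← hndef] at this
    rcases Nat.div_eq_self.1 this with h | h
    · omega
    · exact Nat.coprime_comm.1 h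
  have h := Complex.isPrimitiveRoot_exp n hn.ne'
  nth_rw 1 [cyclotomic_eq_minpoly h hn]
  refine minpoly.isIntegrallyClosed_dvd (h.isIntegral hn) ?_
  rw [aeval_comp, aeval_X_pow]
  have := (h.pow_of_coprime j hcop)
  rw [cyclotomic_eq_minpoly this hn]
  exact minpoly.aeval _ _

lemma geom_sum_mk_eq_zero [IsAddCyclic C] {c : C} (hc : c ≠ 0) :
    Ideal.Quotient.mk (cycIdeal Λ C) (∑ i ∈ range (addOrderOf c), 𝕖 c ^ i) = 0 := by
  obtain ⟨g, hg⟩ := IsAddCyclic.exists_generator (α := C)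
  have hg' : AddSubgroup.zmultiples g = ⊤ := (AddSubgroup.eq_top_iff' _).2 hg
  obtain ⟨j, rfl⟩ := exists_nsmul_eq hg' c
  rw [Ideal.Quotient.eq_zero_iff_mem]
  have h1 : Nat.card C ∣ j * addOrderOf (j • g) := by
    rw [← addOrderOf_gen hg', addOrderOf_dvd_iff_nsmul_eq_zero, mul_nsmul,
      addOrderOf_nsmul_eq_zero]
  have h2 : ¬ Nat.card C ∣ j := by
    rwa [← addOrderOf_gen hg', addOrderOf_dvd_iff_nsmul_eq_zero]
  have h3 := aeval_dvd (x := 𝕖 g) (cyclotomic_dvd_geom_sum (Nat.card_pos (α := C)) h1 h2)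
  simp only [map_sum, map_pow, aeval_X, single_pow_nsmul g j] at h3
  exact Ideal.mem_of_dvd _ h3 (aeval_cyclotomic_mem_cycIdeal hg')

/-- In the cyclotomic quotient of a cyclic group of invertible order, `[c] - 1` is a unit for
`c ≠ 0`. -/
lemma isUnit_mk_single_sub_one [IsAddCyclic C] (hn : IsUnit ((Nat.card C : ℕ) : Λ)) {c : C}
    (hc : c ≠ 0) : IsUnit (Ideal.Quotient.mk (cycIdeal Λ C) (𝕖 c - 1)) := by
  set d := addOrderOf c
  have hd : IsUnit ((d : ℕ) : CycQuot Λ C) := by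
    have h' : IsUnit ((d : ℕ) : Λ) :=
      isUnit_of_dvd_unit (Nat.cast_dvd_cast (addOrderOf_dvd_natCard c)) hn
    simpa using h'.map (algebraMap Λ (CycQuot Λ C))
  set x := Ideal.Quotient.mk (cycIdeal Λ C) 𝕖 c
  have h0 : ∑ i ∈ range d, x ^ i = 0 := by
    have := geom_sum_mk_eq_zero (Λ := Λ) hc
    rw [map_sum] at this
    simpa only [map_pow, x] using this
  rw [map_sub, map_one]
  refine isUnit_of_dvd_unit ?_ hd
  have h2 : ∑ i ∈ range d, (1 - x ^ i) = (d : CycQuot Λ C) := by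
    simp [Finset.sum_sub_distrib, h0]
  rw [← h2]
  refine Finset.dvd_sum fun i _ => ?_
  have h3 := sub_one_dvd_pow_sub_one x i
  exact dvd_sub_comm.1 h3

end Cyclic

section QuotMap

variable {M : Type v} [AddCommGroup M]

lemma quotMap_single (B : AddSubgroup M) (m : M) (r : Λ) :
    quotMap Λ M B (AddMonoidAlgebra.single m r) = AddMonoidAlgebra.single (m : M ⧸ B) r := by
  simp [quotMap]

lemma quotMap_surjective (B : AddSubgroup M) : Function.Surjective (quotMap Λ M B) := by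
  intro y
  induction y using AddMonoidAlgebra.induction_linear with
  | zero => exact ⟨0, map_zero _⟩
  | add a b ha hb =>
    obtain ⟨a, rfl⟩ := ha; obtain ⟨b, rfl⟩ := hb; exact ⟨a + b, map_add _ _ _⟩
  | single q r =>
    obtain ⟨m, rfl⟩ := QuotientAddGroup.mk_surjective q
    exact ⟨_, quotMap_single B m r⟩

lemma cycQuotMap_surjective (B : AddSubgroup M) : Function.Surjective (cycQuotMap Λ M B) :=
  Ideal.Quotient.mk_surjective.comp (quotMap_surjective B)

lemma algebraMap_quot (B : AddSubgroup M) :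
    algebraMap (AddMonoidAlgebra Λ M) (AddMonoidAlgebra Λ (M ⧸ B)) = quotMap Λ M B := rfl

lemma smul_quot_def (B : AddSubgroup M) (x : AddMonoidAlgebra Λ M)
    (y : AddMonoidAlgebra Λ (M ⧸ B)) : x • y = quotMap Λ M B x * y := Algebra.smul_def x y

lemma smul_cycQuot_def (B : AddSubgroup M) (x : AddMonoidAlgebra Λ M)
    (y : CycQuot Λ (M ⧸ B)) : x • y = cycQuotMap Λ M B x * y := Algebra.smul_def x y

variable (Λ)

/-- An element killed by `b ↦ 0` and equal to `1` at `B'` when `b ∈ B`, `b ∉ B'`. -/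
lemma exists_separating_of_not_mem (B' : AddSubgroup M) [B'.FiniteIndex]
    [IsAddCyclic (M ⧸ B')] (hu : IsUnit ((B'.index : ℕ) : Λ)) {b : M} (hb' : b ∉ B') :
    ∃ y : AddMonoidAlgebra Λ M, cycQuotMap Λ M B' (y * (𝕖 b - 1)) = 1 ∧
      ∀ B : AddSubgroup M, b ∈ B → quotMap Λ M B (y * (𝕖 b - 1)) = 0 := by
  have hc : (b : M ⧸ B') ≠ 0 := fun h => hb' ((QuotientAddGroup.eq_zero_iff b).1 h)
  have hu' : IsUnit ((Nat.card (M ⧸ B') : ℕ) : Λ) := hu
  obtain ⟨w, hw⟩ := (isUnit_mk_single_sub_one hu' hc).exists_left_inv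
  obtain ⟨y, hy⟩ := cycQuotMap_surjective B' w
  refine ⟨y, ?_, fun B hb => ?_⟩
  · rw [map_mul, hy, cycQuotMap, RingHom.comp_apply, map_sub, map_one, quotMap_single]
    exact hw
  · rw [map_mul, map_sub, map_one, quotMap_single, (QuotientAddGroup.eq_zero_iff b).2 hb,
      ← AddMonoidAlgebra.one_def, sub_self, mul_zero]

/-- Comaximality of the kernels at two different subgroups. -/
lemma exists_separating (B B' : AddSubgroup M) [B.FiniteIndex] [B'.FiniteIndex]
    [IsAddCyclic (M ⧸ B)] [IsAddCyclic (M ⧸ B')] (hne : B ≠ B')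
    (hu : IsUnit ((B.index : ℕ) : Λ)) (hu' : IsUnit ((B'.index : ℕ) : Λ)) :
    ∃ x : AddMonoidAlgebra Λ M, cycQuotMap Λ M B x = 0 ∧ cycQuotMap Λ M B' x = 1 := by
  by_cases h : B ≤ B'
  · obtain ⟨b, hbB', hbB⟩ := SetLike.not_le_iff_exists.1 fun h' => hne (le_antisymm h h')
    obtain ⟨y, h1, h2⟩ := exists_separating_of_not_mem Λ B hu hbB
    refine ⟨1 - y * (𝕖 b - 1), ?_, ?_⟩
    · rw [map_sub, map_one, h1, sub_self]
    · rw [map_sub, map_one]
      simp [cycQuotMap, h2 B' hbB']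
  · obtain ⟨b, hbB, hbB'⟩ := SetLike.not_le_iff_exists.1 h
    obtain ⟨y, h1, h2⟩ := exists_separating_of_not_mem Λ B' hu' hbB'
    exact ⟨y * (𝕖 b - 1), by simp [cycQuotMap, h2 B hbB], h1⟩

end QuotMap

section Transfer

lemma aeval_mapDomain {C C' : Type*} [AddCommMonoid C] [AddCommMonoid C']
    [Algebra ℤ (AddMonoidAlgebra Λ C)] [Algebra ℤ (AddMonoidAlgebra Λ C')]
    (e : C →+ C') (g : C) (p : ℤ[X]) :
    AddMonoidAlgebra.mapDomainRingHom Λ e (aeval 𝕖 g p) = aeval 𝕖(e g) p := by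
  rw [aeval_def, aeval_def, hom_eval₂]
  congr 1
  · exact RingHom.ext_int _ _
  · simp

lemma map_cycIdeal_le {C : Type v} {C' : Type w} [AddCommGroup C] [AddCommGroup C']
    (e : C →+ C') (he : Function.Bijective e) :
    (cycIdeal Λ C).map (AddMonoidAlgebra.mapDomainRingHom Λ e) ≤ cycIdeal Λ C' := by
  rw [cycIdeal, Ideal.map_span, Ideal.span_le]
  rintro _ ⟨x, ⟨g, hg, rfl⟩, rfl⟩
  refine Ideal.subset_span ⟨e g, ?_, ?_⟩
  · rw [← AddMonoidHom.map_zmultiples, hg, ← AddMonoidHom.range_eq_map,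
      AddMonoidHom.range_eq_top.2 he.2]
  · rw [Nat.card_congr (Equiv.ofBijective e he), ← map_cyclotomic (Nat.card C')
      (Int.castRingHom Λ), aeval_map_int, aeval_map_int]
    exact aeval_mapDomain e g _

lemma map_mapDomain_comp {A B C : Type*} [AddCommMonoid A] [AddCommMonoid B] [AddCommMonoid C]
    (f : B →+ C) (g : A →+ B) (x : AddMonoidAlgebra Λ A) :
    AddMonoidAlgebra.mapDomainRingHom Λ f (AddMonoidAlgebra.mapDomainRingHom Λ g x) =
      AddMonoidAlgebra.mapDomainRingHom Λ (f.comp g) x := by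
  rw [AddMonoidAlgebra.mapDomainRingHom_comp]
  rfl

/-- Transfer of the kernel of `cycQuotMap` along a surjection of groups. -/
lemma cycQuotMap_comap {M : Type v} {N : Type w} [AddCommGroup M] [AddCommGroup N] (π : M →+ N)
    (hπ : Function.Surjective π) (B' : AddSubgroup N) (f : AddMonoidAlgebra Λ M) :
    cycQuotMap Λ M (B'.comap π) f = 0 ↔
      cycQuotMap Λ N B' (AddMonoidAlgebra.mapDomainRingHom Λ π f) = 0 := by
  let e : M ⧸ B'.comap π →+ N ⧸ B' := QuotientAddGroup.map _ _ π le_rfl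
  have he : Function.Bijective e := by
    refine ⟨?_, ?_⟩
    · rw [injective_iff_map_eq_zero]
      intro x hx
      obtain ⟨m, rfl⟩ := QuotientAddGroup.mk_surjective x
      rw [QuotientAddGroup.eq_zero_iff]
      simpa [e] using hx
    · intro y
      obtain ⟨z, rfl⟩ := QuotientAddGroup.mk_surjective y
      obtain ⟨m, rfl⟩ := hπ z
      exact ⟨(m : M ⧸ B'.comap π), rfl⟩
  let e' : M ⧸ B'.comap π ≃+ N ⧸ B' := AddEquiv.ofBijective e he
  have h1 : e.comp (QuotientAddGroup.mk' (B'.comap π)) = (QuotientAddGroup.mk' B').comp π := rfl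
  have h2 : AddMonoidAlgebra.mapDomainRingHom Λ e (quotMap Λ M (B'.comap π) f) =
      quotMap Λ N B' (AddMonoidAlgebra.mapDomainRingHom Λ π f) := by
    simp only [quotMap, map_mapDomain_comp, h1]
  simp only [cycQuotMap, RingHom.comp_apply, Ideal.Quotient.eq_zero_iff_mem]
  constructor
  · intro hf
    rw [← h2]
    exact map_cycIdeal_le e he (Ideal.mem_map_of_mem _ hf)
  · intro hf
    have h3 : AddMonoidAlgebra.mapDomainRingHom Λ e'.symm.toAddMonoidHom
        (AddMonoidAlgebra.mapDomainRingHom Λ e (quotMap Λ M (B'.comap π) f)) =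
        quotMap Λ M (B'.comap π) f := by
      rw [map_mapDomain_comp]
      have : e'.symm.toAddMonoidHom.comp e = AddMonoidHom.id _ :=
        AddMonoidHom.ext fun x => e'.symm_apply_apply x
      rw [this, AddMonoidAlgebra.mapDomainRingHom_id]
      rfl
    rw [← h3, h2]
    exact map_cycIdeal_le _ e'.symm.bijective (Ideal.mem_map_of_mem _ hf)

lemma isAddCyclic_comap_iff {M : Type v} {N : Type w} [AddCommGroup M] [AddCommGroup N] (π : M →+ N)
    (hπ : Function.Surjective π) (B' : AddSubgroup N) :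
    IsAddCyclic (M ⧸ B'.comap π) ↔ IsAddCyclic (N ⧸ B') := by
  let e : M ⧸ B'.comap π →+ N ⧸ B' := QuotientAddGroup.map _ _ π le_rfl
  have he : Function.Bijective e := by
    refine ⟨?_, ?_⟩
    · rw [injective_iff_map_eq_zero]
      intro x hx
      obtain ⟨m, rfl⟩ := QuotientAddGroup.mk_surjective x
      rw [QuotientAddGroup.eq_zero_iff]
      simpa [e] using hx
    · intro y
      obtain ⟨z, rfl⟩ := QuotientAddGroup.mk_surjective y
      obtain ⟨m, rfl⟩ := hπ z
      exact ⟨(m : M ⧸ B'.comap π), rfl⟩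
  exact (AddEquiv.ofBijective e he).isAddCyclic

end Transfer

end CycQuotLib
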