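import Groth.Agent.CycQuotLib.Basic

/-!
# The group ring of a finite group as a product of cyclotomic quotients
-/

noncomputable section

open Polynomial Finset W4c6equivkfinstab

namespace CycQuotLib

universe u v

variable {Λ : Type u} [CommRing Λ]

local notation:max "𝕖" a:max => AddMonoidAlgebra.single a (1 : Λ)

section

variable {A : Type v} [AddCommGroup A]

lemma mul_geom_sum_eq_zero {c : A} {f : AddMonoidAlgebra Λ A}
    (hf : quotMap Λ A (AddSubgroup.zmultiples c) f = 0) :
    f * ∑ i ∈ range (addOrderOf c), (𝕖 c) ^ i = 0 := by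
  set L := AddSubgroup.zmultiples c
  set S := ∑ i ∈ range (addOrderOf c), (𝕖 c) ^ i
  have hcS : (𝕖 c) * S = S := by
    have h1 : (𝕖 c) ^ addOrderOf c = 1 := by
      rw [single_pow_nsmul, addOrderOf_nsmul_eq_zero, ← AddMonoidAlgebra.one_def]
    have := geom_sum_mul 𝕖 c (addOrderOf c)
    rw [h1, sub_self, mul_sub, mul_one, sub_eq_zero] at this
    rw [mul_comm]; exact this
  have hl : ∀ l ∈ L, (𝕖 l) * S = S := by
    rintro l ⟨k, rfl⟩
    induction k using Int.induction_on with
    | zero => simp [← AddMonoidAlgebra.one_def]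
    | succ k ih =>
      show 𝕖 ((k + 1 : ℤ) • c) * S = S
      rw [add_zsmul, one_zsmul, ← mul_one (1 : Λ), ← AddMonoidAlgebra.single_mul_single,
        mul_assoc, hcS]
      exact ih
    | pred k ih =>
      show 𝕖 ((-k - 1 : ℤ) • c) * S = S
      nth_rw 1 [← hcS]
      rw [← mul_assoc, AddMonoidAlgebra.single_mul_single, mul_one, sub_zsmul, one_zsmul,
        neg_add_cancel_right]
      exact ih
  let h : AddMonoidAlgebra Λ (A ⧸ L) →ₗ[Λ] AddMonoidAlgebra Λ A :=
    (Finsupp.linearCombination Λ fun q : A ⧸ L => 𝕖 (Quotient.out q) * S) ∘ₗ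
      (AddMonoidAlgebra.coeffLinearEquiv Λ).toLinearMap
  have key : ∀ f : AddMonoidAlgebra Λ A, h (quotMap Λ A L f) = f * S := by
    intro f
    induction f using AddMonoidAlgebra.induction_linear with
    | zero => simp
    | add a b ha hb => simp [ha, hb, add_mul]
    | single a r =>
      obtain ⟨l, hlL⟩ : ∃ l, Quotient.out (a : A ⧸ L) = a + (l : L) := by
        obtain ⟨l, hl'⟩ := QuotientAddGroup.mk_out_eq_mul L a
        exact ⟨l, hl'⟩
      rw [quotMap_single]
      simp only [h, LinearMap.comp_apply, LinearEquiv.coe_coe]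
      rw [show (AddMonoidAlgebra.coeffLinearEquiv Λ) (AddMonoidAlgebra.single (a : A ⧸ L) r) =
        Finsupp.single (a : A ⧸ L) r from rfl, Finsupp.linearCombination_single, hlL,
        ← mul_one (1 : Λ), ← AddMonoidAlgebra.single_mul_single, mul_assoc, hl _ l.2,
        ← smul_mul_assoc, AddMonoidAlgebra.smul_single', mul_one]
  rw [← key f, hf, map_zero]

lemma isUnit_natCast_of_dvd {a b : ℕ} (h : a ∣ b) (hb : IsUnit (b : Λ)) : IsUnit (a : Λ) :=
  isUnit_of_dvd_unit (Nat.cast_dvd_cast h) hb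

lemma eq_zero_of_isAddCyclic [Finite A] [IsAddCyclic A] (hu : IsUnit ((Nat.card A : ℕ) : Λ))
    (f : AddMonoidAlgebra Λ A)
    (hL : ∀ c : A, c ≠ 0 → quotMap Λ A (AddSubgroup.zmultiples c) f = 0)
    (hf : f ∈ cycIdeal Λ A) : f = 0 := by
  obtain ⟨g, hg⟩ := IsAddCyclic.exists_generator (α := A)
  have hg' : AddSubgroup.zmultiples g = ⊤ := (AddSubgroup.eq_top_iff' _).2 hg
  obtain ⟨h, rfl⟩ := Ideal.mem_span_singleton'.1 (cycIdeal_le_span_singleton hg' hf)
  set n := Nat.card A with hndef
  set x := h * aeval 𝕖 g (cyclotomic n ℤ) with hxdef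
  have hn : 0 < n := Nat.card_pos
  have hdiv : (X ^ n - 1 : ℤ[X]) ∣ cyclotomic n ℤ * ∏ m ∈ n.properDivisors, (X ^ m - 1) := by
    rw [← prod_cyclotomic_eq_X_pow_sub_one hn ℤ, ← Nat.cons_self_properDivisors hn.ne',
      Finset.prod_cons]
    exact mul_dvd_mul_left _ (Finset.prod_dvd_prod_of_dvd _ _ fun m hm =>
      cyclotomic.dvd_X_pow_sub_one m ℤ)
  have hzero : x * ∏ m ∈ n.properDivisors, ((𝕖 g) ^ m - 1) = 0 := by
    rw [hxdef, mul_assoc]
    obtain ⟨q, hq⟩ := hdiv
    have h2 := congrArg (aeval 𝕖 g) hq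
    simp only [map_mul, map_prod, map_sub, map_pow, aeval_X, map_one] at h2
    rw [h2, single_pow_nsmul g n, ← addOrderOf_gen hg' |>.trans hndef.symm,
      addOrderOf_nsmul_eq_zero, ← AddMonoidAlgebra.one_def, sub_self, zero_mul, mul_zero]
  -- every factor is a unit up to the annihilator of `x`
  have hstep : ∀ m ∈ n.properDivisors, ∀ y : AddMonoidAlgebra Λ A,
      x * y * ((𝕖 g) ^ m - 1) = 0 → x * y = 0 := by
    intro m hm y hy
    obtain ⟨hmn, hlt⟩ := Nat.mem_properDivisors.1 hm
    set c := m • g with hcdef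
    have hc : c ≠ 0 := by
      rw [hcdef, Ne, ← addOrderOf_dvd_iff_nsmul_eq_zero, addOrderOf_gen hg']
      exact fun h' => absurd (Nat.le_of_dvd (Nat.pos_of_dvd_of_pos hmn hn) h') (not_le.2 hlt)
    rw [single_pow_nsmul, ← hcdef] at hy
    have h0 : x * y * ∑ i ∈ range (addOrderOf c), (𝕖 c) ^ i = 0 := by
      rw [mul_right_comm, mul_geom_sum_eq_zero (hL c hc), zero_mul]
    have hd : IsUnit ((addOrderOf c : ℕ) : AddMonoidAlgebra Λ A) := by
      simpa using (isUnit_natCast_of_dvd (addOrderOf_dvd_natCard c) hu).map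
        (algebraMap Λ (AddMonoidAlgebra Λ A))
    have h1 : x * y * ((addOrderOf c : ℕ) : AddMonoidAlgebra Λ A) = 0 := by
      have h2 : ((addOrderOf c : ℕ) : AddMonoidAlgebra Λ A) =
          ∑ i ∈ range (addOrderOf c), (𝕖 c) ^ i -
            ∑ i ∈ range (addOrderOf c), ((𝕖 c) ^ i - 1) := by
        simp [Finset.sum_sub_distrib]
      rw [h2, mul_sub, h0, zero_sub, neg_eq_zero, Finset.mul_sum]
      refine Finset.sum_eq_zero fun i _ => ?_
      obtain ⟨t, ht⟩ := sub_one_dvd_pow_sub_one 𝕖 c i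
      rw [ht, ← mul_assoc, hy, zero_mul]
    exact hd.mul_left_eq_zero.1 h1
  have main : ∀ s : Finset ℕ, s ⊆ n.properDivisors →
      x * ∏ m ∈ s, ((𝕖 g) ^ m - 1) = 0 → x = 0 := by
    intro s
    induction s using Finset.induction with
    | empty => intro _ h; simpa using h
    | insert m s hms ih =>
      intro hs hx
      rw [Finset.prod_insert hms] at hx
      refine ih (fun i hi => hs (Finset.mem_insert_of_mem hi)) ?_
      refine hstep m (hs (Finset.mem_insert_self _ _)) _ ?_
      rw [← hx]; ring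
  exact main _ Finset.Subset.rfl hzero

lemma exists_two_of_not_isAddCyclic [Finite A] (h : ¬ IsAddCyclic A) :
    ∃ (p : ℕ) (x y : A), p.Prime ∧ p • x = 0 ∧ p • y = 0 ∧ y ≠ 0 ∧
      x ∉ AddSubgroup.zmultiples y := by
  by_contra hne
  push Not at hne
  have key : ∀ p : ℕ, p.Prime → Nat.card (nsmulAddMonoidHom (α := A) p).ker ≤ p := by
    intro p hp
    by_cases hbot : (nsmulAddMonoidHom (α := A) p).ker = ⊥
    · rw [hbot, AddSubgroup.card_bot]; exact hp.pos
    obtain ⟨y, hy, hy0⟩ := (AddSubgroup.bot_or_exists_ne_zero _).resolve_left hbot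
    have hle : (nsmulAddMonoidHom (α := A) p).ker ≤ AddSubgroup.zmultiples y := fun x hx =>
      hne p x y hp hx hy hy0
    calc _ ≤ Nat.card (AddSubgroup.zmultiples y) :=
          Nat.card_le_card_of_injective _ (AddSubgroup.inclusion_injective hle)
      _ = addOrderOf y := Nat.card_zmultiples y
      _ ≤ p := Nat.le_of_dvd hp.pos (addOrderOf_dvd_iff_nsmul_eq_zero.2 hy)
  have hall : ∀ n : ℕ, 0 < n → Nat.card (nsmulAddMonoidHom (α := A) n).ker ≤ n := by
    intro n
    induction n using Nat.strong_induction_on with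
    | _ n ih =>
      intro hn
      rcases eq_or_ne n 1 with rfl | h1
      · have : (nsmulAddMonoidHom (α := A) 1).ker = ⊥ := by ext a; simp
        rw [this, AddSubgroup.card_bot]
      · obtain ⟨p, hp, m, rfl⟩ := Nat.exists_prime_and_dvd h1
        have hm : 0 < m := Nat.pos_of_mul_pos_left hn
        have hlt : m < p * m := lt_mul_left hm hp.one_lt
        let ψ : (nsmulAddMonoidHom (α := A) (p * m)).ker →+ (nsmulAddMonoidHom (α := A) p).ker :=
          ((nsmulAddMonoidHom (α := A) m).comp (AddSubgroup.subtype _)).codRestrict _ fun a => by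
            have := a.2
            simp only [AddMonoidHom.mem_ker, nsmulAddMonoidHom_apply] at this
            simp only [AddMonoidHom.mem_ker, AddMonoidHom.coe_comp, AddSubgroup.coe_subtype,
              Function.comp_apply, nsmulAddMonoidHom_apply]
            rwa [← mul_nsmul']
        have hker : Nat.card ψ.ker ≤ Nat.card (nsmulAddMonoidHom (α := A) m).ker := by
          refine Nat.card_le_card_of_injective (fun a => ⟨a.1.1, ?_⟩) ?_
          · exact congrArg Subtype.val a.2
          · intro a b hab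
            exact Subtype.ext (Subtype.ext (congrArg Subtype.val hab :))
        rw [← AddSubgroup.card_mul_index ψ.ker, AddSubgroup.index_ker]
        calc Nat.card ψ.ker * Nat.card ψ.range ≤ m * p :=
              Nat.mul_le_mul (hker.trans (ih m hlt hm))
                ((Nat.card_le_card_of_injective _ Subtype.val_injective).trans (key p hp))
          _ = p * m := mul_comm _ _
  apply h
  haveI := Fintype.ofFinite A
  classical
  refine isAddCyclic_of_card_nsmul_eq_zero_le fun n hn => ?_
  refine le_trans (le_of_eq ?_) (hall n hn)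
  rw [Nat.card_eq_fintype_card, ← Fintype.card_coe]
  exact Fintype.card_congr (Equiv.subtypeEquivRight fun a => by simp)

lemma eq_zero_of_not_isAddCyclic [Finite A] (hA : ¬ IsAddCyclic A)
    (hu : IsUnit ((Nat.card A : ℕ) : Λ)) (f : AddMonoidAlgebra Λ A)
    (hL : ∀ c : A, c ≠ 0 → quotMap Λ A (AddSubgroup.zmultiples c) f = 0) : f = 0 := by
  obtain ⟨p, x, y, hp, hx, hy, hy0, hxy⟩ := exists_two_of_not_isAddCyclic hA
  haveI : Fact p.Prime := ⟨hp⟩
  have hoy : addOrderOf y = p := addOrderOf_eq_prime hy hy0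
  set u := 𝕖 x
  set w := 𝕖 y
  have hw0 : f * ∑ j ∈ range p, w ^ j = 0 := by
    have := mul_geom_sum_eq_zero (hL y hy0)
    rwa [hoy] at this
  have hi : ∀ i ∈ range p, f * ∑ k ∈ range p, (u * w ^ i) ^ k = 0 := by
    intro i _
    have hne : x + i • y ≠ 0 := fun h => hxy (by
      rw [add_eq_zero_iff_eq_neg] at h
      rw [h]
      exact neg_mem (AddSubgroup.nsmul_mem _ (AddSubgroup.mem_zmultiples y) i))
    have ho : addOrderOf (x + i • y) = p :=
      addOrderOf_eq_prime (by rw [nsmul_add, hx, smul_comm, hy, smul_zero, add_zero]) hne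
    have := mul_geom_sum_eq_zero (hL _ hne)
    rw [ho] at this
    rw [show u * w ^ i = 𝕖 (x + i • y) by
      simp [u, w, single_pow_nsmul, AddMonoidAlgebra.single_mul_single]]
    exact this
  have hwp : w ^ p = 1 := by
    rw [show w = 𝕖 y from rfl, single_pow_nsmul, hy, ← AddMonoidAlgebra.one_def]
  have key : ∑ i ∈ range p, ∑ k ∈ range p, (u * w ^ i) ^ k =
      (p : AddMonoidAlgebra Λ A) +
        (∑ k ∈ (range p).erase 0, u ^ k) * ∑ j ∈ range p, w ^ j := by
    rw [Finset.sum_comm, ← Finset.add_sum_erase _ _ (Finset.mem_range.2 hp.pos), Finset.sum_mul]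
    congr 1
    · simp
    · refine Finset.sum_congr rfl fun k hk => ?_
      obtain ⟨hk0, hkp⟩ := Finset.mem_erase.1 hk
      rw [Finset.mem_range] at hkp
      simp only [mul_pow, ← pow_mul, ← Finset.mul_sum]
      congr 1
      have hcop : k.Coprime p :=
        (hp.coprime_iff_not_dvd.2 fun h => by
          have := Nat.le_of_dvd (Nat.pos_of_ne_zero hk0) h; omega).symm
      have hred : ∀ i : ℕ, w ^ (i * k) = w ^ (i * k % p) := fun i => pow_eq_pow_mod _ hwp
      simp only [hred]
      refine Finset.sum_nbij (fun i => i * k % p) ?_ ?_ ?_ (fun _ _ => rfl)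
      · exact fun i _ => Finset.mem_range.2 (Nat.mod_lt _ hp.pos)
      · intro i hi j hj hij
        rw [Finset.coe_range, Set.mem_Iio] at hi hj
        have := Nat.ModEq.cancel_right_of_coprime (by rwa [Nat.gcd_comm]) hij
        rwa [Nat.ModEq, Nat.mod_eq_of_lt hi, Nat.mod_eq_of_lt hj] at this
      · intro j hj
        rw [Finset.coe_range, Set.mem_Iio] at hj
        obtain ⟨c, -, hc⟩ := Nat.exists_mul_mod_eq_one_of_coprime hcop hp.one_lt
        refine ⟨c * j % p, by simp [Nat.mod_lt _ hp.pos], ?_⟩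
        dsimp only
        rw [Nat.mul_mod, Nat.mod_mod, ← Nat.mul_mod, mul_right_comm, Nat.mul_mod,
          mul_comm c k, hc, one_mul, Nat.mod_mod, Nat.mod_eq_of_lt hj]
  have h0 : f * ∑ i ∈ range p, ∑ k ∈ range p, (u * w ^ i) ^ k = 0 := by
    rw [Finset.mul_sum]; exact Finset.sum_eq_zero hi
  rw [key, mul_add, ← mul_assoc, mul_right_comm, hw0, zero_mul, add_zero] at h0
  have hp' : IsUnit ((p : ℕ) : AddMonoidAlgebra Λ A) := by
    have : p ∣ Nat.card A := hoy ▸ addOrderOf_dvd_natCard y
    simpa using (isUnit_natCast_of_dvd this hu).map (algebraMap Λ (AddMonoidAlgebra Λ A))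
  exact hp'.mul_left_eq_zero.1 h0

end

lemma eq_zero_of_forall (A : Type v) [AddCommGroup A] [Finite A]
    (hu : IsUnit ((Nat.card A : ℕ) : Λ)) (f : AddMonoidAlgebra Λ A)
    (hf : ∀ B : AddSubgroup A, IsAddCyclic (A ⧸ B) → cycQuotMap Λ A B f = 0) : f = 0 := by
  suffices H : ∀ (N : ℕ) (A : Type v) [AddCommGroup A] [Finite A], Nat.card A = N →
      IsUnit ((Nat.card A : ℕ) : Λ) → ∀ f : AddMonoidAlgebra Λ A,
      (∀ B : AddSubgroup A, IsAddCyclic (A ⧸ B) → cycQuotMap Λ A B f = 0) → f = 0 from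
    H _ A rfl hu f hf
  intro N
  induction N using Nat.strong_induction_on with
  | _ N ih =>
    intro A _ _ hN hu f hf
    have hL : ∀ c : A, c ≠ 0 → quotMap Λ A (AddSubgroup.zmultiples c) f = 0 := by
      intro c hc
      set L := AddSubgroup.zmultiples c
      have hlt : Nat.card (A ⧸ L) < N := by
        rw [← hN, AddSubgroup.card_eq_card_quotient_mul_card_addSubgroup L]
        refine lt_mul_right Nat.card_pos ?_
        rw [Nat.card_zmultiples]
        have h1 : addOrderOf c ≠ 1 := fun h => hc (AddMonoid.addOrderOf_eq_one_iff.1 h)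
        have := addOrderOf_pos c
        omega
      refine ih _ hlt (A ⧸ L) rfl
        (isUnit_natCast_of_dvd (AddSubgroup.card_quotient_dvd_card L) hu) _ fun B' hB' => ?_
      have h1 := cycQuotMap_comap (Λ := Λ) (QuotientAddGroup.mk' L)
        (QuotientAddGroup.mk'_surjective L) B' f
      refine h1.1 (hf _ ?_)
      exact (isAddCyclic_comap_iff _ (QuotientAddGroup.mk'_surjective L) B').2 hB'
    by_cases hA : IsAddCyclic A
    · refine eq_zero_of_isAddCyclic hu f hL ?_
      have hB : IsAddCyclic (A ⧸ (⊥ : AddSubgroup A)) :=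
        QuotientAddGroup.quotientBot.isAddCyclic.2 hA
      have h1 : cycQuotMap Λ A ⊥ f = 0 := hf ⊥ hB
      rw [cycQuotMap, RingHom.comp_apply, Ideal.Quotient.eq_zero_iff_mem] at h1
      have h2 := map_cycIdeal_le (Λ := Λ)
        (QuotientAddGroup.quotientBot (G := A)).toAddMonoidHom
        (QuotientAddGroup.quotientBot (G := A)).bijective (Ideal.mem_map_of_mem _ h1)
      rw [quotMap, map_mapDomain_comp] at h2
      rwa [show (QuotientAddGroup.quotientBot (G := A)).toAddMonoidHom.comp
        (QuotientAddGroup.mk' ⊥) = AddMonoidHom.id A from AddMonoidHom.ext fun a => rfl,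
        AddMonoidAlgebra.mapDomainRingHom_id] at h2
    · exact eq_zero_of_not_isAddCyclic hA hu f hL

variable (Λ) in
/-- Surjectivity onto the product of cyclotomic quotients over any finite set of subgroups. -/
lemma exists_idempotent_lift {M : Type v} [AddCommGroup M] (s : Finset (AddSubgroup M))
    (B' : AddSubgroup M) [B'.FiniteIndex] [IsAddCyclic (M ⧸ B')]
    (hu' : IsUnit ((B'.index : ℕ) : Λ))
    (hs : ∀ B ∈ s, B ≠ B' ∧ B.FiniteIndex ∧ IsAddCyclic (M ⧸ B) ∧
      IsUnit ((B.index : ℕ) : Λ)) :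
    ∃ e : AddMonoidAlgebra Λ M,
      cycQuotMap Λ M B' e = 1 ∧ ∀ B ∈ s, cycQuotMap Λ M B e = 0 := by
  classical
  induction s using Finset.induction with
  | empty => exact ⟨1, map_one _, by simp⟩
  | insert B s hB ih =>
    obtain ⟨e, he, he'⟩ := ih fun C hC => hs C (Finset.mem_insert_of_mem hC)
    obtain ⟨hne, hfi, hcyc, hu⟩ := hs B (Finset.mem_insert_self _ _)
    obtain ⟨x, hx, hx'⟩ := exists_separating Λ B B' hne hu hu'
    refine ⟨x * e, by rw [map_mul, hx', he, one_mul], ?_⟩
    intro C hC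
    rcases Finset.mem_insert.1 hC with rfl | hC
    · rw [map_mul, hx, zero_mul]
    · rw [map_mul, he' C hC, mul_zero]

theorem bijective_pi (A : Type v) [AddCommGroup A] [Finite A]
    (hA : IsUnit ((Nat.card A : ℕ) : Λ)) :
    Function.Bijective (RingHom.pi fun B : {B : AddSubgroup A // IsAddCyclic (A ⧸ B)} =>
      cycQuotMap Λ A B.1) := by
  constructor
  · rw [injective_iff_map_eq_zero]
    intro f hf
    exact eq_zero_of_forall A hA f fun B hB => congrFun hf ⟨B, hB⟩
  · intro y
    classical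
    haveI : Fintype {B : AddSubgroup A // IsAddCyclic (A ⧸ B)} := Fintype.ofFinite _
    haveI : Fintype (AddSubgroup A) := Fintype.ofFinite _
    have hu : ∀ B : AddSubgroup A, IsUnit ((B.index : ℕ) : Λ) := fun B =>
      isUnit_natCast_of_dvd B.index_dvd_card hA
    have hidem : ∀ B : {B : AddSubgroup A // IsAddCyclic (A ⧸ B)},
        ∃ e : AddMonoidAlgebra Λ A, cycQuotMap Λ A B.1 e = 1 ∧
          ∀ C : {B : AddSubgroup A // IsAddCyclic (A ⧸ B)}, C ≠ B →
            cycQuotMap Λ A C.1 e = 0 := by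
      intro B
      haveI := B.2
      obtain ⟨e, he, he'⟩ := exists_idempotent_lift Λ
        (Finset.univ.filter fun C : AddSubgroup A => IsAddCyclic (A ⧸ C) ∧ C ≠ B.1) B.1 (hu _)
        (fun C hC => ⟨(Finset.mem_filter.1 hC).2.2, inferInstance, (Finset.mem_filter.1 hC).2.1,
          hu _⟩)
      exact ⟨e, he, fun C hC => he' _ (Finset.mem_filter.2
        ⟨Finset.mem_univ _, C.2, fun h => hC (Subtype.ext h)⟩)⟩
    choose e he he' using hidem
    choose z hz using fun B : {B : AddSubgroup A // IsAddCyclic (A ⧸ B)} =>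
      cycQuotMap_surjective (Λ := Λ) B.1 (y B)
    refine ⟨∑ B, e B * z B, funext fun C => ?_⟩
    simp only [RingHom.pi_apply, map_sum, map_mul]
    rw [Finset.sum_eq_single C]
    · rw [he, one_mul, hz]
    · intro B _ hBC
      rw [he' B C (Ne.symm hBC), zero_mul]
    · simp

end CycQuotLib
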